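import Cfsg.Agent.Helper16.Brauer43.L3Defs
import Cfsg.Agent.Helper47.B43.GL4
import Cfsg.Agent.Helper47.B43.GL5
import Cfsg.Agent.Helper80.B43.GL12
import Cfsg.Agent.Helper80.B43.GL3
import Cfsg.Agent.Helper80.B43.GL6
import Cfsg.Agent.Helper74.B43.AR9

/-!
# Brauer 1943, layer L3: the glue lemmas (GL1)-(GL6) and (AR9), collected under one namespace

Proved by helper80 (GL1, GL2, GL3, GL6), helper47 (GL4, GL5), helper74 (AR9).
-/

set_option autoImplicit false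

namespace Cfsg.Agent.Helper16.Brauer43.GL

open Cfsg Cfsg.Agent.Helper16 Cfsg.Agent.Helper16.DefOne Cfsg.Agent.Helper82.DefOne
  Cfsg.Agent.Helper77.DefOne Cfsg.Agent.Helper16.Brauer43
open scoped ComplexConjugate

universe u

variable {G : Type u} [Group G] [Fintype G] {p : ℕ} [Fact p.Prime]
  (P : Sylow p G) [Fintype (P : Subgroup G)] (D : L0Data P)

theorem deg_Y_eq (ψ ψ' : IrrCharacter G) (hψ : ψ ∈ D.Y) (hψ' : ψ' ∈ D.Y) :
    charDegree (ψ : G → ℂ) = charDegree (ψ' : G → ℂ) :=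
  Helper80.B43.deg_Y_eq P D ψ ψ' hψ hψ'

theorem degree_equation (ψ : IrrCharacter G) (hψ : ψ ∈ D.Y) :
    D.δ * (charDegree (ψ : G → ℂ) : ℤ) = ∑ᶠ χ ∈ D.X, D.ε χ * (charDegree (χ : G → ℂ) : ℤ) :=
  Helper80.B43.degree_equation P D ψ hψ

theorem deg_modEq_X (hP : Nat.card P = p) (χ : IrrCharacter G) (hχ : χ ∈ D.X) :
    (charDegree (χ : G → ℂ) : ℤ) ≡ D.ε χ [ZMOD p] :=
  Helper80.B43.deg_modEq_X P D hP χ hχ

theorem deg_modEq_Y (hP : Nat.card P = p) (ψ : IrrCharacter G) (hψ : ψ ∈ D.Y) :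
    (charDegree (ψ : G → ℂ) : ℤ) ≡ D.δ * ((cen P).relIndex (nor P) : ℤ) [ZMOD p] :=
  Helper80.B43.deg_modEq_Y P D hP ψ hψ

theorem dvd_deg_Z (hP : Nat.card P = p) (χ : IrrCharacter G) (hX : χ ∉ D.X) (hY : χ ∉ D.Y) :
    p ∣ charDegree (χ : G → ℂ) :=
  Helper80.B43.dvd_deg_Z P D hP χ hX hY

theorem sum_Y_apply (hP : Nat.card P = p) (hC : cen P = (P : Subgroup G)) (x : G)
    (hx : x ∈ (P : Subgroup G)) (hx1 : x ≠ 1) :
    ∑ᶠ ψ ∈ D.Y, (ψ : G → ℂ) x = -(D.δ : ℂ) :=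
  Helper47.B43.sum_Y_apply P D hP hC x hx hx1

theorem deg_dvd_X (hP : Nat.card P = p) (hC : cen P = (P : Subgroup G)) (χ : IrrCharacter G)
    (hχ : χ ∈ D.X) :
    charDegree (χ : G → ℂ) ∣ (cen P).relIndex (nor P) * (nor P).index :=
  Helper47.B43.deg_dvd_X P D hP hC χ hχ

theorem deg_dvd_Y (hP : Nat.card P = p) (hC : cen P = (P : Subgroup G)) (ψ : IrrCharacter G)
    (hψ : ψ ∈ D.Y) :
    charDegree (ψ : G → ℂ) ∣ (cen P).relIndex (nor P) * (nor P).index :=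
  Helper47.B43.deg_dvd_Y P D hP hC ψ hψ

theorem principal_mem_X (hperf : commutator G = ⊤)
    (ht : 2 ≤ (p - 1) / (cen P).relIndex (nor P)) :
    Helper79.principalIrr G ∈ D.X ∧ D.ε (Helper79.principalIrr G) = 1 :=
  Helper80.B43.principal_mem_X P D hperf ht

theorem ar_neg_one (p n d w u h : ℕ) (hp : 3 ≤ p) (hd : d + 1 = u * p) (hw : w + (p - 1) = h * p)
    (hprod : d * w = (1 + n * p) * (p - 1)) (hn : 2 * n ≤ p + 1) (hn1 : 1 ≤ n)
    (hsq : d * d ≤ (1 + n * p) * ((p - 1) * p)) : u = 1 ∧ h = n + 1 :=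
  Helper74.B43.ar_neg_one p n d w u h hp hd hw hprod hn hn1 hsq

end Cfsg.Agent.Helper16.Brauer43.GL
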