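import Cfsg.Agent.Helper16.Brauer43.L0e

/-!
# Brauer 1943, layer L0: the irreducible characters of a group with `C_G(P) = P`, `|P| = p`

`L0_main`: the irreducible characters of `G` split into `X` (`e = |N_G(P) : P|` characters, constant
`ε χ = ±1` on `P \ {1}`), `Y` (`(p-1)/e` exceptional characters, with the two sums over `P`), and the
rest (vanishing on `P \ {1}`); together with the relation on `p`-regular elements.
-/

set_option autoImplicit false

namespace Cfsg.Agent.Helper16.Brauer43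

open Cfsg Cfsg.Agent.Helper16 Cfsg.Agent.Helper16.DefOne Cfsg.Agent.Helper82.DefOne
  Cfsg.Agent.Helper77.DefOne
open scoped ComplexConjugate

universe u

variable {G : Type u} [Group G] [Fintype G] {p : ℕ} [Fact p.Prime] (P : Sylow p G)

/-- transport of a sum over `C_G(P)` to a sum over `P` -/
theorem sum_cen_eq_sum_P (hC : cen P = (P : Subgroup G)) [Fintype (cen P)]
    [Fintype (P : Subgroup G)] (f : G → ℂ) :
    ∑ c : cen P, f (c : G) = ∑ z : (P : Subgroup G), f (z : G) :=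
  Fintype.sum_equiv (MulEquiv.subgroupCongr hC).toEquiv _ _ (fun _ => rfl)

open Classical in
/-- **L0**: the character theory of a group with a self-centralizing Sylow subgroup of prime
order. -/
theorem L0_main (hP : Nat.card P = p) (hC : cen P = (P : Subgroup G))
    [Fintype (P : Subgroup G)] :
    ∃ (X Y : Set (IrrCharacter G)) (ε : IrrCharacter G → ℤ) (δ : ℤ),
      Disjoint X Y ∧ Nat.card X = (cen P).relIndex (nor P) ∧
      Nat.card Y = (p - 1) / (cen P).relIndex (nor P) ∧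
      (∀ χ, ε χ = 1 ∨ ε χ = -1) ∧ (δ = 1 ∨ δ = -1) ∧
      (∀ χ ∈ X, ∀ x : G, x ∈ (P : Subgroup G) → x ≠ 1 → (χ : G → ℂ) x = (ε χ : ℂ)) ∧
      (∀ ψ ∈ Y, ∑ z : (P : Subgroup G), (ψ : G → ℂ) z =
        (charDegree (ψ : G → ℂ) : ℂ) - (δ : ℂ) * ((cen P).relIndex (nor P) : ℂ)) ∧
      (∀ ψ ∈ Y, ∑ z : (P : Subgroup G), (ψ : G → ℂ) z * conj ((ψ : G → ℂ) z) =
        (charDegree (ψ : G → ℂ) : ℂ) ^ 2 + ((cen P).relIndex (nor P) : ℂ) * (p : ℂ)
          - ((cen P).relIndex (nor P) : ℂ) ^ 2) ∧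
      (∀ ψ ∈ Y, ∀ g : G, ¬ p ∣ orderOf g →
        (δ : ℂ) * (ψ : G → ℂ) g = ∑ᶠ χ ∈ X, (ε χ : ℂ) * (χ : G → ℂ) g) ∧
      (∀ χ : IrrCharacter G, χ ∉ X → χ ∉ Y → ∀ x : G, x ∈ (P : Subgroup G) → x ≠ 1 →
        (χ : G → ℂ) x = 0) := by
  haveI := normal_subgroupOf_nor P hP
  haveI : Fintype (cen P) := Fintype.ofFinite _
  have hnor := nor_eq_normalizer P hP
  obtain ⟨M, hM⟩ := Helper74.exists_isPModular p Fact.out
  have hmod : ModCount p P := Helper24.DefOneMZ2.module_count M hM P hP hnor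
  obtain ⟨X, Y, ε, δ, hXY, hdisj, hcX, hcY, hε, hδ, hval, -, -, hrel, hrowX, hrowY⟩ :=
    Rset_main P hP hmod (oneIrr P) (isCanon_oneIrr P)
  have hin : inertia P (oneIrr P) = (cen P).relIndex (nor P) := inertia_oneIrr P hP
  have hmemC : ∀ x : G, x ∈ (P : Subgroup G) → x ∈ cen P := fun x hx => by rw [hC]; exact hx
  refine ⟨X, Y, ε, δ, hdisj, by rw [hcX, hin], by rw [hcY, hin], hε, hδ, ?_, ?_, ?_, hrel, ?_⟩
  · intro χ hχ x hx hx1
    have hc1 : (⟨x, hmemC x hx⟩ : cen P) ≠ 1 := fun h => hx1 (congrArg Subtype.val h)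
    have h1 := hval χ hχ ⟨x, hmemC x hx⟩ (dvd_orderOf_of_ne_one P hP hC _ hc1)
    rw [orbit_oneIrr, finsum_mem_singleton] at h1
    rw [h1]
    show (ε χ : ℂ) * 1 = _
    rw [mul_one]
  · intro ψ hψ
    obtain ⟨φ₀, h1, h2, h3⟩ := hrowY ψ hψ
    have hs := exc_sum P hP hC ψ φ₀ h2 δ h3
    rw [← sum_cen_eq_sum_P P hC (fun g => (ψ : G → ℂ) g)]
    have hsplit : ∑ c : cen P, (ψ : G → ℂ) (c : G) =
        (ψ : G → ℂ) 1 + ∑ c : cen P, (if c = 1 then 0 else (ψ : G → ℂ) (c : G)) := by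
      rw [← Finset.sum_erase_add _ _ (Finset.mem_univ (1 : cen P)),
        ← Finset.sum_erase_add (f := fun c : cen P => (if c = 1 then 0 else (ψ : G → ℂ) (c : G)))
          _ (Finset.mem_univ (1 : cen P))]
      simp only [if_true, add_zero, OneMemClass.coe_one]
      rw [add_comm]
      congr 1
      apply Finset.sum_congr rfl
      intro c hc
      rw [if_neg (Finset.ne_of_mem_erase hc)]
    rw [hsplit, hs, Helper79.irr_one ψ]
    ring
  · intro ψ hψ
    obtain ⟨φ₀, h1, h2, h3⟩ := hrowY ψ hψ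
    have hs := exc_sum_sq P hP hC ψ φ₀ h2 δ hδ h3
    rw [← sum_cen_eq_sum_P P hC (fun g => (ψ : G → ℂ) g * conj ((ψ : G → ℂ) g))]
    have hsplit : ∑ c : cen P, (ψ : G → ℂ) (c : G) * conj ((ψ : G → ℂ) (c : G)) =
        (ψ : G → ℂ) 1 * conj ((ψ : G → ℂ) 1) + ∑ c : cen P,
          (if c = 1 then 0 else (ψ : G → ℂ) (c : G) * conj ((ψ : G → ℂ) (c : G))) := by
      rw [← Finset.sum_erase_add _ _ (Finset.mem_univ (1 : cen P)),
        ← Finset.sum_erase_add (f := fun c : cen P =>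
          (if c = 1 then 0 else (ψ : G → ℂ) (c : G) * conj ((ψ : G → ℂ) (c : G))))
          _ (Finset.mem_univ (1 : cen P))]
      simp only [if_true, add_zero, OneMemClass.coe_one]
      rw [add_comm]
      congr 1
      apply Finset.sum_congr rfl
      intro c hc
      rw [if_neg (Finset.ne_of_mem_erase hc)]
    rw [hsplit, hs, Helper79.irr_one ψ]
    have : conj ((charDegree (ψ : G → ℂ) : ℕ) : ℂ) = ((charDegree (ψ : G → ℂ) : ℕ) : ℂ) := by simp
    rw [this]
    ring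
  · intro χ hχX hχY x hx hx1
    have hnot : χ ∉ Rset P (oneIrr P) := by
      rw [hXY]
      exact fun h => h.elim hχX hχY
    have hc1 : (⟨x, hmemC x hx⟩ : cen P) ≠ 1 := fun h => hx1 (congrArg Subtype.val h)
    have h1 := apply_singular_eq P hP χ ⟨x, hmemC x hx⟩ (dvd_orderOf_of_ne_one P hP hC _ hc1)
    rw [h1]
    have hz : ∀ φ : IrrCharacter (cen P), rowZ P χ φ = 0 := by
      intro φ
      by_contra h
      exact hnot ⟨φ, can_eq_oneIrr P hP hC φ, h⟩
    simp [hz]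

end Cfsg.Agent.Helper16.Brauer43
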