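import Cfsg.Agent.Helper16.DefOne.Principal

/-!
# Brauer 1943, layer L0a: the case `C_G(P) = P` of the defect-one engine, canonical map

When `C_G(P) = P` the only canonical character of `C_G(P)` is the trivial one, and every
irreducible character of `C_G(P)` is linear.
-/

set_option autoImplicit false

namespace Cfsg.Agent.Helper16.Brauer43

open Cfsg Cfsg.Agent.Helper16 Cfsg.Agent.Helper16.DefOne Cfsg.Agent.Helper82.DefOne
  Cfsg.Agent.Helper77.DefOne
open scoped ComplexConjugate

universe u

variable {G : Type u} [Group G] [Fintype G] {p : ℕ} [Fact p.Prime] (P : Sylow p G)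

/-- a `p`-regular element of `C_G(P) = P` is trivial -/
theorem eq_one_of_regular (hP : Nat.card P = p) (hC : cen P = (P : Subgroup G)) (x : cen P)
    (hx : ¬ p ∣ orderOf x) : x = 1 := by
  have hp : p.Prime := Fact.out
  have hxP : (x : G) ∈ (P : Subgroup G) := by rw [← hC]; exact x.2
  have h1 : orderOf (⟨(x : G), hxP⟩ : (P : Subgroup G)) ∣ p := by
    have := orderOf_dvd_natCard (⟨(x : G), hxP⟩ : (P : Subgroup G))
    rwa [hP] at this
  rw [Subgroup.orderOf_mk] at h1
  have h2 : orderOf x ∣ p := by rwa [← Subgroup.orderOf_coe]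
  rcases (Nat.dvd_prime hp).mp h2 with h | h
  · exact orderOf_eq_one_iff.mp h
  · exact absurd (by rw [h]) hx

/-- a canonical character of `C_G(P) = P` is the trivial character -/
theorem eq_oneIrr_of_isCanon (hP : Nat.card P = p) (hC : cen P = (P : Subgroup G))
    (θ : IrrCharacter (cen P)) (hθ : IsCanon P θ) : θ = oneIrr P := by
  classical
  haveI : Fintype (cen P) := Fintype.ofFinite _
  have hconst : ∀ x : cen P, (θ : cen P → ℂ) x = (θ : cen P → ℂ) 1 := by
    intro x
    exact hθ x (by rw [← hC]; exact x.2)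
  have hnorm := Helper79.classInner_irr_self θ
  unfold classInner at hnorm
  simp only [hconst] at hnorm
  rw [Finset.sum_const, Finset.card_univ, ← Nat.card_eq_fintype_card, nsmul_eq_mul,
    ← mul_assoc, inv_mul_cancel₀ (by exact_mod_cast (Nat.card_pos (α := cen P)).ne'), one_mul,
    Helper79.irr_one θ] at hnorm
  have hd : charDegree (θ : cen P → ℂ) = 1 := by
    have h1 : ((charDegree (θ : cen P → ℂ) * charDegree (θ : cen P → ℂ) : ℕ) : ℂ) = 1 := by
      push_cast
      simpa using hnorm
    have h2 : charDegree (θ : cen P → ℂ) * charDegree (θ : cen P → ℂ) = 1 := by exact_mod_cast h1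
    exact Nat.eq_one_of_mul_eq_one_right h2
  apply canon_ext P hP θ (oneIrr P) hθ (isCanon_oneIrr P)
  intro x _
  rw [hconst x, Helper79.irr_one θ, hd]
  simp [oneIrr]

theorem can_eq_oneIrr (hP : Nat.card P = p) (hC : cen P = (P : Subgroup G))
    (φ : IrrCharacter (cen P)) : can P φ = oneIrr P :=
  eq_oneIrr_of_isCanon P hP hC _ (isCanon_can P hP φ)

theorem isCanon_iff (hP : Nat.card P = p) (hC : cen P = (P : Subgroup G))
    (φ : IrrCharacter (cen P)) : IsCanon P φ ↔ φ = oneIrr P :=
  ⟨eq_oneIrr_of_isCanon P hP hC φ, fun h => h ▸ isCanon_oneIrr P⟩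

end Cfsg.Agent.Helper16.Brauer43
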