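import Cfsg.Agent.Helper16.Brauer43.L0a

/-!
# Brauer 1943, layer L0b: values of an exceptional character on `P \ {1}` when `C_G(P) = P`
-/

set_option autoImplicit false

namespace Cfsg.Agent.Helper16.Brauer43

open Cfsg Cfsg.Agent.Helper16 Cfsg.Agent.Helper16.DefOne Cfsg.Agent.Helper82.DefOne
  Cfsg.Agent.Helper77.DefOne
open scoped ComplexConjugate

universe u

variable {G : Type u} [Group G] [Fintype G] {p : ℕ} [Fact p.Prime] (P : Sylow p G)

/-- a nontrivial element of `C_G(P) = P` is `p`-singular -/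
theorem dvd_orderOf_of_ne_one (hP : Nat.card P = p) (hC : cen P = (P : Subgroup G)) (c : cen P)
    (hc : c ≠ 1) : p ∣ orderOf c := by
  by_contra h
  exact hc (eq_one_of_regular P hP hC c h)

/-- orthogonality in `C_G(P)`: sums of products -/
theorem sum_mul_conj_irr [Fintype (cen P)] (φ φ' : IrrCharacter (cen P)) [Decidable (φ = φ')] :
    ∑ c : cen P, (φ : cen P → ℂ) c * conj ((φ' : cen P → ℂ) c) =
      if φ = φ' then (Nat.card (cen P) : ℂ) else 0 := by
  have h := Helper79.classInner_irr φ φ'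
  unfold classInner at h
  have hne : (Nat.card (cen P) : ℂ) ≠ 0 := by exact_mod_cast (Nat.card_pos (α := cen P)).ne'
  have h2 : ∑ c : cen P, (φ : cen P → ℂ) c * conj ((φ' : cen P → ℂ) c) =
      (Nat.card (cen P) : ℂ) * (if φ = φ' then 1 else 0) := by
    rw [← h, ← mul_assoc, mul_inv_cancel₀ hne, one_mul]
  rw [h2]
  split_ifs <;> simp

/-- every irreducible character of `C_G(P) = P` is linear -/
theorem irr_cen_one (hP : Nat.card P = p) (hC : cen P = (P : Subgroup G))
    (φ : IrrCharacter (cen P)) : (φ : cen P → ℂ) 1 = 1 := by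
  classical
  haveI : Fintype (cen P) := Fintype.ofFinite _
  haveI : Finite (IrrCharacter (cen P)) := Helper79.irr_finite'
  haveI : Fintype (IrrCharacter (cen P)) := Fintype.ofFinite _
  have hcard : Fintype.card (IrrCharacter (cen P)) = p := by
    have h1 := card_fibre_can P hP (oneIrr P) (isCanon_oneIrr P)
    rw [← Nat.card_eq_fintype_card]
    exact ((Nat.card_congr (Equiv.subtypeUnivEquiv (fun φ => can_eq_oneIrr P hP hC φ))).symm).trans
      h1
  have hsq := Helper79.sum_charDegree_sq (G := cen P)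
  have hcardC : Nat.card (cen P) = p := by rw [hC]; exact hP
  rw [hcardC] at hsq
  have hpos : ∀ ψ : IrrCharacter (cen P), 1 ≤ charDegree (ψ : cen P → ℂ) ^ 2 := fun ψ =>
    Nat.one_le_pow _ _ (Helper79.irr_charDegree_pos ψ)
  have hle : ∀ ψ : IrrCharacter (cen P), charDegree (ψ : cen P → ℂ) ^ 2 ≤ 1 := by
    intro ψ
    by_contra hlt
    push Not at hlt
    have h1 : ∑ χ : IrrCharacter (cen P), 1 < ∑ χ : IrrCharacter (cen P),
        charDegree (χ : cen P → ℂ) ^ 2 :=
      Finset.sum_lt_sum (fun χ _ => hpos χ) ⟨ψ, Finset.mem_univ _, hlt⟩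
    rw [Finset.sum_const, Finset.card_univ, hcard, smul_eq_mul, mul_one, hsq] at h1
    exact lt_irrefl _ h1
  have hd : charDegree (φ : cen P → ℂ) = 1 := by
    have h1 := hle φ
    have h2 := Helper79.irr_charDegree_pos φ
    nlinarith
  rw [Helper79.irr_one φ, hd]
  simp

/-- sum of a nontrivial irreducible character over `C_G(P)` vanishes -/
theorem sum_irr_cen [Fintype (cen P)] (φ : IrrCharacter (cen P)) (hφ : φ ≠ oneIrr P) :
    ∑ c : cen P, (φ : cen P → ℂ) c = 0 := by
  classical
  have h := sum_mul_conj_irr P φ (oneIrr P)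
  rw [if_neg hφ] at h
  simpa [oneIrr] using h

end Cfsg.Agent.Helper16.Brauer43
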