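import Cfsg.Agent.Helper16.Brauer43.L0b

/-!
# Brauer 1943, layer L0c: values of an exceptional character on `P \ {1}` when `C_G(P) = P`
-/

set_option autoImplicit false

namespace Cfsg.Agent.Helper16.Brauer43

open Cfsg Cfsg.Agent.Helper16 Cfsg.Agent.Helper16.DefOne Cfsg.Agent.Helper82.DefOne
  Cfsg.Agent.Helper77.DefOne
open scoped ComplexConjugate

universe u

variable {G : Type u} [Group G] [Fintype G] {p : ℕ} [Fact p.Prime] (P : Sylow p G)

open Classical in
/-- the `N`-orbit of `φ₀` as a finset -/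
noncomputable def orbFin (φ₀ : IrrCharacter (cen P)) : Finset (IrrCharacter (cen P)) :=
  haveI : Finite (IrrCharacter (cen P)) := Helper79.irr_finite'
  haveI : Fintype (IrrCharacter (cen P)) := Fintype.ofFinite _
  Finset.univ.filter fun φ => ∃ n : nor P, n • φ = φ₀

theorem mem_orbFin (φ₀ φ : IrrCharacter (cen P)) : φ ∈ orbFin P φ₀ ↔ ∃ n : nor P, n • φ = φ₀ := by
  unfold orbFin
  simp

theorem card_orbFin (hP : Nat.card P = p) (hC : cen P = (P : Subgroup G))
    (φ₀ : IrrCharacter (cen P)) (hφ₀ : ¬ IsCanon P φ₀) :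
    (orbFin P φ₀).card = (cen P).relIndex (nor P) := by
  classical
  have h1 := card_orbit_in_fibre P hP φ₀ hφ₀
  rw [can_eq_oneIrr P hP hC φ₀, inertia_oneIrr P hP] at h1
  rw [← h1]
  have h2 : Nat.card {ψ : IrrCharacter (cen P) // can P ψ = oneIrr P ∧ ∃ n : nor P, n • ψ = φ₀} =
      Nat.card {ψ : IrrCharacter (cen P) // ψ ∈ orbFin P φ₀} := by
    refine Nat.card_congr (Equiv.subtypeEquivRight fun φ => ?_)
    rw [mem_orbFin]
    constructor
    · intro h; exact h.2
    · intro h; exact ⟨can_eq_oneIrr P hP hC φ, h⟩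
  rw [h2, Nat.card_eq_fintype_card, Fintype.card_coe]

theorem ne_oneIrr_of_mem_orbFin (hP : Nat.card P = p) (φ₀ : IrrCharacter (cen P))
    (hφ₀ : ¬ IsCanon P φ₀) (φ : IrrCharacter (cen P)) (hφ : φ ∈ orbFin P φ₀) : φ ≠ oneIrr P := by
  intro h
  obtain ⟨n, hn⟩ := (mem_orbFin P φ₀ φ).mp hφ
  apply hφ₀
  rw [← hn, h]
  exact isCanon_smul P hP n _ (isCanon_oneIrr P)

end Cfsg.Agent.Helper16.Brauer43
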