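import Cfsg.Agent.Helper16.Brauer43.L0c

/-!
# Brauer 1943, layer L0d: value formula and the two sums for an exceptional character
-/

set_option autoImplicit false

namespace Cfsg.Agent.Helper16.Brauer43

open Cfsg Cfsg.Agent.Helper16 Cfsg.Agent.Helper16.DefOne Cfsg.Agent.Helper82.DefOne
  Cfsg.Agent.Helper77.DefOne
open scoped ComplexConjugate

universe u

variable {G : Type u} [Group G] [Fintype G] {p : ℕ} [Fact p.Prime] (P : Sylow p G)

open Classical in
/-- the value of a character with exceptional rows at a nontrivial element of `C_G(P) = P` -/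
theorem exc_apply (hP : Nat.card P = p) (hC : cen P = (P : Subgroup G)) (ψ : IrrCharacter G)
    (φ₀ : IrrCharacter (cen P)) (hφ₀ : ¬ IsCanon P φ₀) (δ : ℤ)
    (hrow : ∀ φ : IrrCharacter (cen P), can P φ = oneIrr P → ¬ IsCanon P φ →
      rowZ P ψ φ = if ∃ n : nor P, n • φ = φ₀ then δ else 0)
    (c : cen P) (hc : c ≠ 1) :
    (ψ : G → ℂ) (c : G) = (δ : ℂ) * ∑ φ ∈ orbFin P φ₀, (φ : cen P → ℂ) c := by
  haveI : Finite (IrrCharacter (cen P)) := Helper79.irr_finite'
  haveI : Fintype (IrrCharacter (cen P)) := Fintype.ofFinite _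
  rw [apply_singular_eq P hP ψ c (dvd_orderOf_of_ne_one P hP hC c hc),
    finsum_eq_sum_of_fintype, Finset.mul_sum]
  have hrow' : ∀ φ : IrrCharacter (cen P), rowZ P ψ φ = if φ ∈ orbFin P φ₀ then δ else 0 := by
    intro φ
    by_cases hφ : IsCanon P φ
    · have h1 : rowZ P ψ φ = 0 := by
        unfold rowZ
        rw [can_eq_self P hP φ hφ, sub_self]
      have h2 : φ ∉ orbFin P φ₀ := by
        intro h
        exact ne_oneIrr_of_mem_orbFin P hP φ₀ hφ₀ φ h ((isCanon_iff P hP hC φ).mp hφ)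
      rw [h1, if_neg h2]
    · rw [hrow φ (can_eq_oneIrr P hP hC φ) hφ]
      simp only [mem_orbFin]
  simp only [hrow']
  rw [← Finset.sum_filter_add_sum_filter_not Finset.univ (fun φ => φ ∈ orbFin P φ₀)]
  have hz : ∑ φ ∈ Finset.univ.filter (fun φ => ¬ φ ∈ orbFin P φ₀),
      (((if φ ∈ orbFin P φ₀ then δ else 0 : ℤ) : ℂ)) * (φ : cen P → ℂ) c = 0 := by
    apply Finset.sum_eq_zero
    intro φ hφ
    rw [Finset.mem_filter] at hφ
    rw [if_neg hφ.2]
    simp
  rw [hz, add_zero]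
  have hfil : Finset.univ.filter (fun φ => φ ∈ orbFin P φ₀) = orbFin P φ₀ := by
    ext φ; simp
  rw [hfil]
  apply Finset.sum_congr rfl
  intro φ hφ
  rw [if_pos hφ]

open Classical in
/-- the sum of the values over the nontrivial elements -/
theorem exc_sum (hP : Nat.card P = p) (hC : cen P = (P : Subgroup G)) (ψ : IrrCharacter G)
    (φ₀ : IrrCharacter (cen P)) (hφ₀ : ¬ IsCanon P φ₀) (δ : ℤ)
    (hrow : ∀ φ : IrrCharacter (cen P), can P φ = oneIrr P → ¬ IsCanon P φ →
      rowZ P ψ φ = if ∃ n : nor P, n • φ = φ₀ then δ else 0) [Fintype (cen P)] :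
    ∑ c : cen P, (if c = 1 then 0 else (ψ : G → ℂ) (c : G)) =
      -((δ : ℂ) * ((cen P).relIndex (nor P) : ℂ)) := by
  have h1 : ∀ c : cen P, (if c = 1 then 0 else (ψ : G → ℂ) (c : G)) =
      (δ : ℂ) * ∑ φ ∈ orbFin P φ₀, (if c = 1 then 0 else (φ : cen P → ℂ) c) := by
    intro c
    by_cases hc : c = 1
    · simp [hc]
    · simp only [if_neg hc]
      exact exc_apply P hP hC ψ φ₀ hφ₀ δ hrow c hc
  simp only [h1]
  rw [← Finset.mul_sum, Finset.sum_comm]
  have h2 : ∀ φ ∈ orbFin P φ₀, ∑ c : cen P, (if c = 1 then 0 else (φ : cen P → ℂ) c) = -1 := by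
    intro φ hφ
    have h3 := sum_irr_cen P φ (ne_oneIrr_of_mem_orbFin P hP φ₀ hφ₀ φ hφ)
    have h4 : ∑ c : cen P, (if c = 1 then 0 else (φ : cen P → ℂ) c) =
        ∑ c : cen P, (φ : cen P → ℂ) c - (φ : cen P → ℂ) 1 := by
      rw [eq_sub_iff_add_eq, ← Finset.sum_erase_add _ _ (Finset.mem_univ (1 : cen P)),
        ← Finset.sum_erase_add (f := fun c => (φ : cen P → ℂ) c) _ (Finset.mem_univ (1 : cen P))]
      simp only [if_true, add_zero]
      congr 1
      apply Finset.sum_congr rfl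
      intro c hc
      rw [if_neg (Finset.ne_of_mem_erase hc)]
    rw [h4, h3, irr_cen_one P hP hC φ, zero_sub]
  rw [Finset.sum_congr rfl h2, Finset.sum_const, card_orbFin P hP hC φ₀ hφ₀]
  simp

end Cfsg.Agent.Helper16.Brauer43
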