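import Cfsg.Agent.Helper16.Brauer43.L0d

/-!
# Brauer 1943, layer L0e: the square sum of an exceptional character over `P \ {1}`
-/

set_option autoImplicit false

namespace Cfsg.Agent.Helper16.Brauer43

open Cfsg Cfsg.Agent.Helper16 Cfsg.Agent.Helper16.DefOne Cfsg.Agent.Helper82.DefOne
  Cfsg.Agent.Helper77.DefOne
open scoped ComplexConjugate

universe u

variable {G : Type u} [Group G] [Fintype G] {p : ℕ} [Fact p.Prime] (P : Sylow p G)

open Classical in
/-- the sum of the squared absolute values over the nontrivial elements -/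
theorem exc_sum_sq (hP : Nat.card P = p) (hC : cen P = (P : Subgroup G)) (ψ : IrrCharacter G)
    (φ₀ : IrrCharacter (cen P)) (hφ₀ : ¬ IsCanon P φ₀) (δ : ℤ) (hδ : δ = 1 ∨ δ = -1)
    (hrow : ∀ φ : IrrCharacter (cen P), can P φ = oneIrr P → ¬ IsCanon P φ →
      rowZ P ψ φ = if ∃ n : nor P, n • φ = φ₀ then δ else 0) [Fintype (cen P)] :
    ∑ c : cen P, (if c = 1 then 0 else (ψ : G → ℂ) (c : G) * conj ((ψ : G → ℂ) (c : G))) =
      ((cen P).relIndex (nor P) : ℂ) * (p : ℂ) - ((cen P).relIndex (nor P) : ℂ) ^ 2 := by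
  set S : cen P → ℂ := fun c => ∑ φ ∈ orbFin P φ₀, (φ : cen P → ℂ) c with hS
  have hδ2 : (δ : ℂ) * conj (δ : ℂ) = 1 := by
    rcases hδ with h | h <;> rw [h] <;> simp
  have h1 : ∀ c : cen P,
      (if c = 1 then 0 else (ψ : G → ℂ) (c : G) * conj ((ψ : G → ℂ) (c : G))) =
      S c * conj (S c) - (if c = 1 then S c * conj (S c) else 0) := by
    intro c
    by_cases hc : c = 1
    · simp [hc]
    · simp only [if_neg hc, sub_zero]
      rw [exc_apply P hP hC ψ φ₀ hφ₀ δ hrow c hc, map_mul]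
      calc (δ : ℂ) * S c * (conj (δ : ℂ) * conj (S c))
          = ((δ : ℂ) * conj (δ : ℂ)) * (S c * conj (S c)) := by ring
        _ = S c * conj (S c) := by rw [hδ2, one_mul]
  simp only [h1]
  rw [Finset.sum_sub_distrib, Finset.sum_ite_eq' Finset.univ (1 : cen P), if_pos (Finset.mem_univ _)]
  have hS1 : S 1 = ((cen P).relIndex (nor P) : ℂ) := by
    rw [hS]
    simp only
    rw [Finset.sum_congr rfl (fun φ _ => irr_cen_one P hP hC φ), Finset.sum_const,
      card_orbFin P hP hC φ₀ hφ₀]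
    simp
  have hcardC : Nat.card (cen P) = p := by rw [hC]; exact hP
  have hSS : ∑ c : cen P, S c * conj (S c) = ((cen P).relIndex (nor P) : ℂ) * (p : ℂ) := by
    rw [hS]
    simp only [map_sum, Finset.sum_mul, Finset.mul_sum]
    rw [Finset.sum_comm]
    have h2 : ∀ φ ∈ orbFin P φ₀, ∑ c : cen P, ∑ φ' ∈ orbFin P φ₀,
        (φ' : cen P → ℂ) c * conj ((φ : cen P → ℂ) c) = (p : ℂ) := by
      intro φ hφ
      rw [Finset.sum_comm]
      simp only [sum_mul_conj_irr P _ φ]
      rw [Finset.sum_ite_eq' (orbFin P φ₀) φ, if_pos hφ, hcardC]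
    rw [Finset.sum_congr rfl h2, Finset.sum_const, card_orbFin P hP hC φ₀ hφ₀]
    simp
  rw [hSS, hS1]
  have : conj ((cen P).relIndex (nor P) : ℂ) = ((cen P).relIndex (nor P) : ℂ) := by simp
  rw [this]
  ring

end Cfsg.Agent.Helper16.Brauer43
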