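import Mathlib

/-!
# Brauer 1943, layer L3c: pure arithmetic for the counts
-/

set_option autoImplicit false

namespace Cfsg.Agent.Helper16.Brauer43

/-- case `δ = +1` -/
theorem counts_plus (p e n kp km : ℕ) (hp : 0 < p) (hc : 1 + kp + km = e)
    (hrel : (1 : ℤ) * (e : ℤ) = 1 + (kp : ℤ) * (1 + n * p) - (km : ℤ) * ((p : ℤ) - 1)) :
    km = n * kp ∧ e = 1 + kp * (n + 1) := by
  have h1 : (km : ℤ) * p = (n : ℤ) * kp * p := by
    have hc' : (e : ℤ) = 1 + kp + km := by exact_mod_cast hc.symm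
    rw [hc'] at hrel
    linarith
  have hp' : (p : ℤ) ≠ 0 := by exact_mod_cast hp.ne'
  have h2 : (km : ℤ) = (n : ℤ) * kp := mul_right_cancel₀ hp' h1
  have h3 : km = n * kp := by exact_mod_cast h2
  refine ⟨h3, ?_⟩
  rw [← hc, h3]
  ring

/-- case `δ = -1` -/
theorem counts_minus (p e t n a y kp km : ℕ) (hp : 0 < p) (hc : 1 + kp + km = e)
    (hat : a * t = n + 1) (hy : y + e = a * p)
    (hrel : (-1 : ℤ) * (y : ℤ) = 1 + (kp : ℤ) * (1 + n * p) - (km : ℤ) * ((p : ℤ) - 1)) :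
    km = a + n * kp ∧ e = 1 + a * (1 + t * kp) := by
  have hy' : (y : ℤ) = a * p - e := by
    have : (y : ℤ) + e = a * p := by exact_mod_cast hy
    linarith
  have hc' : (e : ℤ) = 1 + kp + km := by exact_mod_cast hc.symm
  have h1 : (km : ℤ) * p = ((a : ℤ) + n * kp) * p := by
    rw [hy', hc'] at hrel
    linarith
  have hp' : (p : ℤ) ≠ 0 := by exact_mod_cast hp.ne'
  have h2 : (km : ℤ) = (a : ℤ) + n * kp := mul_right_cancel₀ hp' h1
  have h3 : km = a + n * kp := by exact_mod_cast h2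
  refine ⟨h3, ?_⟩
  rw [← hc, h3]
  have : a * (1 + t * kp) = a + (n + 1) * kp := by rw [← hat]; ring
  rw [this]
  ring

/-- the sum of squares in case `δ = -1` -/
theorem sumsq_minus (p e t n a y kp km Z : ℕ) (hte : t * e = p - 1) (hp : 1 ≤ p)
    (hat : a * t = n + 1) (hy : y + e = a * p) (hkm : km = a + n * kp)
    (he : e = 1 + a * (1 + t * kp))
    (hsq : 1 + kp * (1 + n * p) ^ 2 + km * (p - 1) ^ 2 + t * y ^ 2 + Z = (1 + n * p) * (e * p)) :
    Z = n * p ^ 2 := by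
  have hp1 : (p : ℤ) = 1 + t * e := by
    have : t * e + 1 = p := by omega
    have h2 : ((t * e + 1 : ℕ) : ℤ) = p := by exact_mod_cast this
    push_cast at h2
    linarith
  have hn : (n : ℤ) = a * t - 1 := by
    have : ((a * t : ℕ) : ℤ) = ((n + 1 : ℕ) : ℤ) := by exact_mod_cast hat
    push_cast at this
    linarith
  have hy' : (y : ℤ) = a * p - e := by
    have : (y : ℤ) + e = a * p := by exact_mod_cast hy
    linarith
  have hkm' : (km : ℤ) = a + n * kp := by exact_mod_cast hkm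
  have he' : (e : ℤ) = 1 + a * (1 + t * kp) := by exact_mod_cast he
  have hsq' : (1 : ℤ) + kp * (1 + n * p) ^ 2 + km * ((p : ℤ) - 1) ^ 2 + t * (y : ℤ) ^ 2 + Z =
      (1 + n * p) * (e * p) := by
    have h1 : ((p - 1 : ℕ) : ℤ) = (p : ℤ) - 1 := by
      rw [Nat.cast_sub hp]; simp
    have := congrArg (fun m : ℕ => (m : ℤ)) hsq
    simp only [Nat.cast_add, Nat.cast_mul, Nat.cast_pow, Nat.cast_one, h1] at this
    exact this
  have hZ : (Z : ℤ) = n * (p : ℤ) ^ 2 := by
    have h3 : (Z : ℤ) = (1 + n * p) * (e * p) - (1 + kp * (1 + n * p) ^ 2 +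
        km * ((p : ℤ) - 1) ^ 2 + t * (y : ℤ) ^ 2) := by linarith
    rw [h3, hy', hkm', hp1, hn, he']
    ring
  exact_mod_cast hZ

end Cfsg.Agent.Helper16.Brauer43
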