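import Cfsg.Agent.Helper16.Brauer43.L3b
import Cfsg.Agent.Helper16.Brauer43.L3c

/-!
# Brauer 1943, layer L3: CONFIG, the degrees of all irreducible characters

`G` perfect, `|P| = p`, `C_G(P) = P`, `|Syl_p(G)| = 1 + n p` with `1 ≤ n`, `2 n ≤ p + 1`,
`e = |N_G(P) : P|`, `t e = p - 1`, `2 ≤ t`.
-/

set_option autoImplicit false

namespace Cfsg.Agent.Helper16.Brauer43

open Cfsg Cfsg.Agent.Helper16 Cfsg.Agent.Helper16.DefOne Cfsg.Agent.Helper82.DefOne
  Cfsg.Agent.Helper77.DefOne Cfsg.Agent.Helper16.Brauer43.GL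
open scoped ComplexConjugate

universe u

variable {G : Type u} [Group G] [Fintype G] {p : ℕ} [Fact p.Prime]
  (P : Sylow p G) [Fintype (P : Subgroup G)] (D : L0Data P)

open Classical in
/-- the sum of the squares of all degrees, split along `1, X₊, X₋, Y, Z` -/
theorem sum_sq_split (hP : Nat.card P = p) (hC : cen P = (P : Subgroup G))
    (hperf : commutator G = ⊤) (n : ℕ) (hs : (nor P).index = 1 + n * p)
    (t : ℕ) (hte : t * (cen P).relIndex (nor P) = p - 1) (ht : 2 ≤ t)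
    (HX : ∀ χ ∈ D.X, χ ≠ Helper79.principalIrr G →
      (D.ε χ = 1 ∧ charDegree (χ : G → ℂ) = 1 + n * p) ∨
        (D.ε χ = -1 ∧ charDegree (χ : G → ℂ) + 1 = p))
    (y : ℕ) (hy : ∀ ψ ∈ D.Y, charDegree (ψ : G → ℂ) = y) :
    1 + Nat.card D.Xplus * (1 + n * p) ^ 2 + Nat.card D.Xminus * (p - 1) ^ 2 + t * y ^ 2 +
      ∑ᶠ χ ∈ D.Zset, charDegree (χ : G → ℂ) ^ 2 =
      (1 + n * p) * ((cen P).relIndex (nor P) * p) := by
  haveI : Finite (IrrCharacter G) := Helper79.irr_finite'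
  haveI : Fintype (IrrCharacter G) := Fintype.ofFinite _
  have hp : p.Prime := Fact.out
  obtain ⟨he1, hed, hep⟩ := e_basic P hP
  have ht' : 2 ≤ (p - 1) / (cen P).relIndex (nor P) := by
    rw [← hte, Nat.mul_div_cancel _ he1]
    exact ht
  obtain ⟨hprX, hprε⟩ := principal_mem_X P D hperf ht'
  have hXfin : D.X.Finite := Set.toFinite _
  have hYfin : D.Y.Finite := Set.toFinite _
  have hZfin : D.Zset.Finite := Set.toFinite _
  have hXpfin : D.Xplus.Finite := Set.toFinite _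
  have hXmfin : D.Xminus.Finite := Set.toFinite _
  have hsq := Helper79.sum_charDegree_sq (G := G)
  rw [card_eq_mul P hP hC, hs] at hsq
  rw [← hsq]
  -- the partition of `univ`
  have huniv : (Finset.univ : Finset (IrrCharacter G)) =
      insert (Helper79.principalIrr G)
        (hXpfin.toFinset ∪ hXmfin.toFinset ∪ hYfin.toFinset ∪ hZfin.toFinset) := by
    ext χ
    simp only [Finset.mem_univ, Finset.mem_insert, Finset.mem_union, Set.Finite.mem_toFinset,
      L0Data.Xplus, L0Data.Xminus, L0Data.Zset, Set.mem_setOf_eq, true_iff]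
    by_cases h1 : χ = Helper79.principalIrr G
    · exact Or.inl h1
    · right
      by_cases hX : χ ∈ D.X
      · rcases D.hε χ with h2 | h2
        · exact Or.inl (Or.inl (Or.inl ⟨hX, h1, h2⟩))
        · exact Or.inl (Or.inl (Or.inr ⟨hX, h2⟩))
      · by_cases hY : χ ∈ D.Y
        · exact Or.inl (Or.inr hY)
        · exact Or.inr ⟨hX, hY⟩
  have hd1 : Disjoint hXpfin.toFinset hXmfin.toFinset := by
    rw [Finset.disjoint_left]
    intro χ h1 h2
    rw [Set.Finite.mem_toFinset] at h1 h2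
    have := h1.2.2
    rw [h2.2] at this
    exact absurd this (by norm_num)
  have hd2 : Disjoint (hXpfin.toFinset ∪ hXmfin.toFinset) hYfin.toFinset := by
    rw [Finset.disjoint_left]
    intro χ h1 h2
    rw [Set.Finite.mem_toFinset] at h2
    rw [Finset.mem_union, Set.Finite.mem_toFinset, Set.Finite.mem_toFinset] at h1
    rcases h1 with h1 | h1
    · exact Set.disjoint_left.mp D.hdisj h1.1 h2
    · exact Set.disjoint_left.mp D.hdisj h1.1 h2
  have hd3 : Disjoint (hXpfin.toFinset ∪ hXmfin.toFinset ∪ hYfin.toFinset) hZfin.toFinset := by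
    rw [Finset.disjoint_left]
    intro χ h1 h2
    rw [Set.Finite.mem_toFinset] at h2
    rw [Finset.mem_union, Finset.mem_union, Set.Finite.mem_toFinset, Set.Finite.mem_toFinset,
      Set.Finite.mem_toFinset] at h1
    rcases h1 with (h1 | h1) | h1
    · exact h2.1 h1.1
    · exact h2.1 h1.1
    · exact h2.2 h1
  have hnot : Helper79.principalIrr G ∉
      hXpfin.toFinset ∪ hXmfin.toFinset ∪ hYfin.toFinset ∪ hZfin.toFinset := by
    rw [Finset.mem_union, Finset.mem_union, Finset.mem_union, Set.Finite.mem_toFinset,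
      Set.Finite.mem_toFinset, Set.Finite.mem_toFinset, Set.Finite.mem_toFinset]
    rintro (((h | h) | h) | h)
    · exact h.2.1 rfl
    · have h' := h.2
      rw [hprε] at h'
      exact absurd h' (by norm_num)
    · exact Set.disjoint_left.mp D.hdisj hprX h
    · exact h.1 hprX
  have hprdeg : charDegree ((Helper79.principalIrr G : IrrCharacter G) : G → ℂ) = 1 := by
    have h1 := Helper79.irr_one (Helper79.principalIrr G)
    have h2 : ((Helper79.principalIrr G : IrrCharacter G) : G → ℂ) 1 = 1 := rfl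
    rw [h2] at h1
    exact_mod_cast h1.symm
  rw [huniv, Finset.sum_insert hnot, Finset.sum_union hd3, Finset.sum_union hd2,
    Finset.sum_union hd1, hprdeg, finsum_mem_eq_finite_toFinset_sum _ hZfin]
  have h1 : ∑ χ ∈ hXpfin.toFinset, charDegree (χ : G → ℂ) ^ 2 =
      Nat.card D.Xplus * (1 + n * p) ^ 2 := by
    rw [Finset.sum_congr rfl (g := fun _ => (1 + n * p) ^ 2)]
    · rw [Finset.sum_const, smul_eq_mul, ← Set.ncard_eq_toFinset_card _ hXpfin,
        Nat.card_coe_set_eq]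
    · intro χ hχ
      rw [Set.Finite.mem_toFinset] at hχ
      rcases HX χ hχ.1 hχ.2.1 with h | h
      · rw [h.2]
      · rw [hχ.2.2] at h; exact absurd h.1 (by norm_num)
  have h2 : ∑ χ ∈ hXmfin.toFinset, charDegree (χ : G → ℂ) ^ 2 =
      Nat.card D.Xminus * (p - 1) ^ 2 := by
    rw [Finset.sum_congr rfl (g := fun _ => (p - 1) ^ 2)]
    · rw [Finset.sum_const, smul_eq_mul, ← Set.ncard_eq_toFinset_card _ hXmfin,
        Nat.card_coe_set_eq]
    · intro χ hχ
      rw [Set.Finite.mem_toFinset] at hχ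
      have hne : χ ≠ Helper79.principalIrr G := by
        intro h
        have h' := hχ.2
        rw [h, hprε] at h'
        exact absurd h' (by norm_num)
      rcases HX χ hχ.1 hne with h | h
      · rw [hχ.2] at h; exact absurd h.1 (by norm_num)
      · have : charDegree (χ : G → ℂ) = p - 1 := by have := h.2; omega
        rw [this]
  have h3 : ∑ χ ∈ hYfin.toFinset, charDegree (χ : G → ℂ) ^ 2 = t * y ^ 2 := by
    rw [Finset.sum_congr rfl (g := fun _ => y ^ 2)]
    · rw [Finset.sum_const, smul_eq_mul, ← Set.ncard_eq_toFinset_card _ hYfin,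
        ← Nat.card_coe_set_eq, D.hcY, ← hte, Nat.mul_div_cancel _ he1]
    · intro χ hχ
      rw [Set.Finite.mem_toFinset] at hχ
      rw [hy χ hχ]
  rw [h1, h2, h3]
  ring

/-- **CONFIG**: the degrees of all irreducible characters of a perfect group with a
self-centralizing Sylow subgroup of order `p` and `1 + n p` Sylow `p`-subgroups,
`2 n ≤ p + 1`, `t ≥ 2`. -/
theorem config_core (hP : Nat.card P = p) (hC : cen P = (P : Subgroup G))
    (hperf : commutator G = ⊤) (n : ℕ) (hs : (nor P).index = 1 + n * p)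
    (t : ℕ) (hte : t * (cen P).relIndex (nor P) = p - 1) (ht : 2 ≤ t)
    (HX : ∀ χ ∈ D.X, χ ≠ Helper79.principalIrr G →
      (D.ε χ = 1 ∧ charDegree (χ : G → ℂ) = 1 + n * p) ∨
        (D.ε χ = -1 ∧ charDegree (χ : G → ℂ) + 1 = p))
    (HY : ∀ ψ ∈ D.Y, (D.δ = 1 ∧ charDegree (ψ : G → ℂ) = (cen P).relIndex (nor P)) ∨
      (D.δ = -1 ∧ ∃ a : ℕ, a * t = n + 1 ∧
        charDegree (ψ : G → ℂ) + (cen P).relIndex (nor P) = a * p)) :
    (∀ χ ∈ D.Xplus, charDegree (χ : G → ℂ) = 1 + n * p) ∧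
    (∀ χ ∈ D.Xminus, charDegree (χ : G → ℂ) + 1 = p) ∧
    1 + Nat.card D.Xplus + Nat.card D.Xminus = (cen P).relIndex (nor P) ∧
    ((D.δ = 1 ∧ (∀ ψ ∈ D.Y, charDegree (ψ : G → ℂ) = (cen P).relIndex (nor P)) ∧
        Nat.card D.Xminus = n * Nat.card D.Xplus ∧
        (cen P).relIndex (nor P) = 1 + Nat.card D.Xplus * (n + 1)) ∨
     (D.δ = -1 ∧ ∃ a : ℕ, a * t = n + 1 ∧
        (∀ ψ ∈ D.Y, charDegree (ψ : G → ℂ) + (cen P).relIndex (nor P) = a * p) ∧
        Nat.card D.Xminus = a + n * Nat.card D.Xplus ∧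
        (cen P).relIndex (nor P) = 1 + a * (1 + t * Nat.card D.Xplus) ∧
        ∑ᶠ χ ∈ D.Zset, charDegree (χ : G → ℂ) ^ 2 = n * p ^ 2)) := by
  have hp : p.Prime := Fact.out
  obtain ⟨he1, hed, hep⟩ := e_basic P hP
  have ht' : 2 ≤ (p - 1) / (cen P).relIndex (nor P) := by
    rw [← hte, Nat.mul_div_cancel _ he1]
    exact ht
  obtain ⟨hprX, hprε⟩ := principal_mem_X P D hperf ht'
  obtain ⟨hcount, hrel⟩ := config_counts_core P D hP hperf n t hte ht HX
  -- a member of `Y`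
  have hYne : D.Y.Nonempty := by
    rw [← Set.nonempty_coe_sort, ← Finite.card_pos_iff (α := D.Y), D.hcY]
    omega
  obtain ⟨ψ₀, hψ₀⟩ := hYne
  refine ⟨?_, ?_, hcount, ?_⟩
  · intro χ hχ
    rcases HX χ hχ.1 hχ.2.1 with h | h
    · exact h.2
    · rw [hχ.2.2] at h; exact absurd h.1 (by norm_num)
  · intro χ hχ
    have hne : χ ≠ Helper79.principalIrr G := by
      intro h
      have h' := hχ.2
      rw [h, hprε] at h'
      exact absurd h' (by norm_num)
    rcases HX χ hχ.1 hne with h | h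
    · rw [hχ.2] at h; exact absurd h.1 (by norm_num)
    · exact h.2
  · rcases HY ψ₀ hψ₀ with ⟨hδ, hy₀⟩ | ⟨hδ, a, hat, hy₀⟩
    · left
      have hall : ∀ ψ ∈ D.Y, charDegree (ψ : G → ℂ) = (cen P).relIndex (nor P) := by
        intro ψ hψ
        rw [deg_Y_eq P D ψ ψ₀ hψ hψ₀, hy₀]
      have h1 := hrel ψ₀ hψ₀
      rw [hδ, hy₀] at h1
      obtain ⟨h2, h3⟩ := counts_plus p _ n _ _ hp.pos hcount h1
      exact ⟨hδ, hall, h2, h3⟩
    · right
      have hall : ∀ ψ ∈ D.Y, charDegree (ψ : G → ℂ) + (cen P).relIndex (nor P) = a * p := by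
        intro ψ hψ
        rw [deg_Y_eq P D ψ ψ₀ hψ hψ₀, hy₀]
      have h1 := hrel ψ₀ hψ₀
      rw [hδ] at h1
      obtain ⟨h2, h3⟩ := counts_minus p _ t n a _ _ _ hp.pos hcount hat hy₀ h1
      have hsplit := sum_sq_split P D hP hC hperf n hs t hte ht HX
        (charDegree (ψ₀ : G → ℂ)) (fun ψ hψ => deg_Y_eq P D ψ ψ₀ hψ hψ₀)
      have h4 := sumsq_minus p _ t n a _ _ _ _ hte hp.one_le hat hy₀ h2 h3 hsplit
      exact ⟨hδ, a, hat, hall, h2, h3, h4⟩

/-- **CONFIG** with the arithmetic front end `2 n ≤ p + 1`. -/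
theorem config_main (hP : Nat.card P = p) (hC : cen P = (P : Subgroup G))
    (hperf : commutator G = ⊤) (n : ℕ) (hs : (nor P).index = 1 + n * p) (hn1 : 1 ≤ n)
    (hn : 2 * n ≤ p + 1) (t : ℕ) (hte : t * (cen P).relIndex (nor P) = p - 1) (ht : 2 ≤ t) :
    (∀ χ ∈ D.Xplus, charDegree (χ : G → ℂ) = 1 + n * p) ∧
    (∀ χ ∈ D.Xminus, charDegree (χ : G → ℂ) + 1 = p) ∧
    1 + Nat.card D.Xplus + Nat.card D.Xminus = (cen P).relIndex (nor P) ∧
    ((D.δ = 1 ∧ (∀ ψ ∈ D.Y, charDegree (ψ : G → ℂ) = (cen P).relIndex (nor P)) ∧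
        Nat.card D.Xminus = n * Nat.card D.Xplus ∧
        (cen P).relIndex (nor P) = 1 + Nat.card D.Xplus * (n + 1)) ∨
     (D.δ = -1 ∧ ∃ a : ℕ, a * t = n + 1 ∧
        (∀ ψ ∈ D.Y, charDegree (ψ : G → ℂ) + (cen P).relIndex (nor P) = a * p) ∧
        Nat.card D.Xminus = a + n * Nat.card D.Xplus ∧
        (cen P).relIndex (nor P) = 1 + a * (1 + t * Nat.card D.Xplus) ∧
        ∑ᶠ χ ∈ D.Zset, charDegree (χ : G → ℂ) ^ 2 = n * p ^ 2)) :=
  config_core P D hP hC hperf n hs t hte ht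
    (fun χ hχ hne => config_X P D hP hC hperf n hs hn1 hn t hte ht χ hχ hne)
    (fun ψ hψ => config_Y P D hP hC n hs hn1 hn t hte ht ψ hψ)

end Cfsg.Agent.Helper16.Brauer43
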