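import Cfsg.Agent.Helper16.Brauer43.L0

/-!
# Brauer 1943, layer L3 (definitions): the output of `L0_main` as a structure
-/

set_option autoImplicit false

namespace Cfsg.Agent.Helper16.Brauer43

open Cfsg Cfsg.Agent.Helper16 Cfsg.Agent.Helper16.DefOne Cfsg.Agent.Helper82.DefOne
  Cfsg.Agent.Helper77.DefOne
open scoped ComplexConjugate

universe u

variable {G : Type u} [Group G] [Fintype G] {p : ℕ} [Fact p.Prime]

/-- The data of `L0_main` for a Sylow subgroup `P` of order `p` with `C_G(P) = P`;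
`eN P = |N_G(P) : P|`. -/
structure L0Data (P : Sylow p G) [Fintype (P : Subgroup G)] where
  X : Set (IrrCharacter G)
  Y : Set (IrrCharacter G)
  ε : IrrCharacter G → ℤ
  δ : ℤ
  hdisj : Disjoint X Y
  hcX : Nat.card X = (cen P).relIndex (nor P)
  hcY : Nat.card Y = (p - 1) / (cen P).relIndex (nor P)
  hε : ∀ χ, ε χ = 1 ∨ ε χ = -1
  hδ : δ = 1 ∨ δ = -1
  hX : ∀ χ ∈ X, ∀ x : G, x ∈ (P : Subgroup G) → x ≠ 1 → (χ : G → ℂ) x = (ε χ : ℂ)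
  hY1 : ∀ ψ ∈ Y, ∑ z : (P : Subgroup G), (ψ : G → ℂ) z =
    (charDegree (ψ : G → ℂ) : ℂ) - (δ : ℂ) * ((cen P).relIndex (nor P) : ℂ)
  hY2 : ∀ ψ ∈ Y, ∑ z : (P : Subgroup G), (ψ : G → ℂ) z * conj ((ψ : G → ℂ) z) =
    (charDegree (ψ : G → ℂ) : ℂ) ^ 2 + ((cen P).relIndex (nor P) : ℂ) * (p : ℂ)
      - ((cen P).relIndex (nor P) : ℂ) ^ 2
  hrel : ∀ ψ ∈ Y, ∀ g : G, ¬ p ∣ orderOf g →
    (δ : ℂ) * (ψ : G → ℂ) g = ∑ᶠ χ ∈ X, (ε χ : ℂ) * (χ : G → ℂ) g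
  hZ : ∀ χ : IrrCharacter G, χ ∉ X → χ ∉ Y → ∀ x : G, x ∈ (P : Subgroup G) → x ≠ 1 →
    (χ : G → ℂ) x = 0

theorem exists_L0Data (P : Sylow p G) [Fintype (P : Subgroup G)] (hP : Nat.card P = p)
    (hC : cen P = (P : Subgroup G)) : Nonempty (L0Data P) := by
  obtain ⟨X, Y, ε, δ, h1, h2, h3, h4, h5, h6, h7, h8, h9, h10⟩ := L0_main P hP hC
  exact ⟨⟨X, Y, ε, δ, h1, h2, h3, h4, h5, h6, h7, h8, h9, h10⟩⟩

end Cfsg.Agent.Helper16.Brauer43
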