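import Cfsg.Agent.Helper16.Brauer43.GL
import Cfsg.Agent.Helper60.B43.AR1
import Cfsg.Agent.Helper67.B43.AR2
import Cfsg.Agent.Helper14.B43.AR3
import Cfsg.Agent.Helper50.B43.AR5
import Cfsg.Agent.Helper12.B43.AR6
import Cfsg.Agent.Helper79.B43.AR7
import Cfsg.Agent.Helper60.B43.AR8

/-!
# Brauer 1943, layer L3a: the degrees of the characters in `X` and `Y`
-/

set_option autoImplicit false

namespace Cfsg.Agent.Helper16.Brauer43

open Cfsg Cfsg.Agent.Helper16 Cfsg.Agent.Helper16.DefOne Cfsg.Agent.Helper82.DefOne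
  Cfsg.Agent.Helper77.DefOne Cfsg.Agent.Helper16.Brauer43.GL
open scoped ComplexConjugate

universe u

variable {G : Type u} [Group G] [Fintype G] {p : ℕ} [Fact p.Prime]
  (P : Sylow p G) [Fintype (P : Subgroup G)] (D : L0Data P)

/-- `|G| = s e p` -/
theorem card_eq_mul (hP : Nat.card P = p) (hC : cen P = (P : Subgroup G)) :
    Nat.card G = (nor P).index * ((cen P).relIndex (nor P) * p) := by
  have h1 := (nor P).index_mul_card
  have h2 := card_nor_eq P
  have h3 : Nat.card (cen P) = p := by rw [hC]; exact hP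
  rw [← h1, h2, h3]

/-- `deg² ≤ |G|` -/
theorem deg_sq_le (χ : IrrCharacter G) :
    charDegree (χ : G → ℂ) * charDegree (χ : G → ℂ) ≤ Nat.card G := by
  classical
  haveI : Finite (IrrCharacter G) := Helper79.irr_finite'
  haveI : Fintype (IrrCharacter G) := Fintype.ofFinite _
  rw [← Helper79.sum_charDegree_sq (G := G), ← sq]
  exact Finset.single_le_sum (f := fun ψ : IrrCharacter G => charDegree (ψ : G → ℂ) ^ 2)
    (fun _ _ => Nat.zero_le _) (Finset.mem_univ χ)

theorem e_basic (hP : Nat.card P = p) :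
    1 ≤ (cen P).relIndex (nor P) ∧ (cen P).relIndex (nor P) ∣ p - 1 ∧
      (cen P).relIndex (nor P) < p := by
  have hp : p.Prime := Fact.out
  have h1 := relIndex_cen_nor_dvd P hP
  have h2 : 0 < (cen P).relIndex (nor P) := relIndex_pos P
  have h3 : 0 < p - 1 := by have := hp.two_le; omega
  have h4 := Nat.le_of_dvd h3 h1
  exact ⟨h2, h1, by omega⟩

/-- **CONFIG (X)**: a nonprincipal member of `X` has degree `1 + n p` (sign `+`) or `p - 1`
(sign `-`). -/
theorem config_X (hP : Nat.card P = p) (hC : cen P = (P : Subgroup G))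
    (hperf : commutator G = ⊤) (n : ℕ) (hs : (nor P).index = 1 + n * p) (hn1 : 1 ≤ n)
    (hn : 2 * n ≤ p + 1) (t : ℕ) (hte : t * (cen P).relIndex (nor P) = p - 1) (ht : 2 ≤ t)
    (χ : IrrCharacter G) (hχ : χ ∈ D.X) (hne : χ ≠ Helper79.principalIrr G) :
    (D.ε χ = 1 ∧ charDegree (χ : G → ℂ) = 1 + n * p) ∨
      (D.ε χ = -1 ∧ charDegree (χ : G → ℂ) + 1 = p) := by
  have hp : p.Prime := Fact.out
  obtain ⟨he1, hed, hep⟩ := e_basic P hP
  have hd1 : 1 ≤ charDegree (χ : G → ℂ) := Helper79.irr_charDegree_pos χ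
  have hdne : charDegree (χ : G → ℂ) ≠ 1 := by
    intro h1
    apply hne
    apply Helper20.D8.eq_principal_of_degree_one hperf χ
    rw [Helper79.irr_one χ, h1]
    simp
  have hdvd := deg_dvd_X P D hP hC χ hχ
  rw [hs, mul_comm] at hdvd
  have hmod := deg_modEq_X P D hP χ hχ
  rcases D.hε χ with h | h
  · left
    rw [h] at hmod
    obtain ⟨u, h', hu, hd, hprod⟩ := Helper50.B43.ar_split_pos p _ n _ hp.two_le he1 hep hmod
      (by omega) hdvd
    obtain ⟨-, hun⟩ := Helper60.B43.ar_pos p _ n u h' hp.two_le he1 hed hu hprod hn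
    exact ⟨h, by rw [hd, hun]⟩
  · right
    rw [h] at hmod
    obtain ⟨u, h', w, hd, hw, hprod⟩ := Helper12.B43.ar_split_neg p _ n _ hp.two_le he1 hep hmod
      hdvd
    obtain ⟨hu, -⟩ := Helper67.B43.ar_neg p _ t n _ w u h' hp.two_le hte ht hd hw hprod hn hn1
    refine ⟨h, ?_⟩
    rw [hd, hu, one_mul]

/-- **CONFIG (Y)**: the members of `Y` have degree `e` (sign `+`) or `a p - e` with
`a t = n + 1` (sign `-`). -/
theorem config_Y (hP : Nat.card P = p) (hC : cen P = (P : Subgroup G))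
    (n : ℕ) (hs : (nor P).index = 1 + n * p) (hn1 : 1 ≤ n)
    (hn : 2 * n ≤ p + 1) (t : ℕ) (hte : t * (cen P).relIndex (nor P) = p - 1) (ht : 2 ≤ t)
    (ψ : IrrCharacter G) (hψ : ψ ∈ D.Y) :
    (D.δ = 1 ∧ charDegree (ψ : G → ℂ) = (cen P).relIndex (nor P)) ∨
      (D.δ = -1 ∧ ∃ a : ℕ, a * t = n + 1 ∧
        charDegree (ψ : G → ℂ) + (cen P).relIndex (nor P) = a * p) := by
  have hp : p.Prime := Fact.out
  obtain ⟨he1, hed, hep⟩ := e_basic P hP
  have hdvd := deg_dvd_Y P D hP hC ψ hψ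
  rw [hs, mul_comm] at hdvd
  have hmod := deg_modEq_Y P D hP ψ hψ
  rcases D.hδ with h | h
  · left
    rw [h, one_mul] at hmod
    obtain ⟨u, h', hy, hprod⟩ := Helper79.B43.ar_split_exc_pos p _ n _ hp he1 hep hmod hdvd
    have hsq := deg_sq_le ψ
    rw [card_eq_mul P hP hC, hs, hy] at hsq
    obtain ⟨hu, -⟩ := Helper14.B43.ar_exc_pos p _ n u h' hp.two_le he1 hed hn1 hprod hn
      (by rw [mul_assoc, mul_comm p]; exact hsq)
    refine ⟨h, ?_⟩
    rw [hy, hu, zero_mul, zero_add]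
  · right
    rw [h, neg_one_mul] at hmod
    obtain ⟨u, h', w, hy, hw, hprod⟩ := Helper60.B43.ar_split_exc_neg p _ n _ hp he1 hep hmod hdvd
    obtain ⟨-, hut⟩ := Helper67.B43.ar_neg p _ t n w _ h' u hp.two_le hte ht hw hy
      (by rw [mul_comm]; exact hprod) hn hn1
    exact ⟨h, u, hut, hy⟩

end Cfsg.Agent.Helper16.Brauer43
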