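import Cfsg.Agent.Helper16.Brauer43.L3a

/-!
# Brauer 1943, layer L3b: the counts `k₊`, `k₋` and the degree equation
-/

set_option autoImplicit false

namespace Cfsg.Agent.Helper16.Brauer43

open Cfsg Cfsg.Agent.Helper16 Cfsg.Agent.Helper16.DefOne Cfsg.Agent.Helper82.DefOne
  Cfsg.Agent.Helper77.DefOne Cfsg.Agent.Helper16.Brauer43.GL
open scoped ComplexConjugate

universe u

variable {G : Type u} [Group G] [Fintype G] {p : ℕ} [Fact p.Prime]
  (P : Sylow p G) [Fintype (P : Subgroup G)] (D : L0Data P)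

/-- the nonprincipal members of `X` of sign `+` -/
def L0Data.Xplus : Set (IrrCharacter G) :=
  {χ | χ ∈ D.X ∧ χ ≠ Helper79.principalIrr G ∧ D.ε χ = 1}

/-- the members of `X` of sign `-` -/
def L0Data.Xminus : Set (IrrCharacter G) := {χ | χ ∈ D.X ∧ D.ε χ = -1}

/-- the characters outside `X ∪ Y` -/
def L0Data.Zset : Set (IrrCharacter G) := {χ | χ ∉ D.X ∧ χ ∉ D.Y}

open Classical in
/-- **CONFIG (counts)**: `|X| = 1 + k₊ + k₋` and the degree equation
`δ y = 1 + k₊ (1 + n p) - k₋ (p - 1)`. -/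
theorem config_counts_core (hP : Nat.card P = p)
    (hperf : commutator G = ⊤) (n : ℕ) (t : ℕ)
    (hte : t * (cen P).relIndex (nor P) = p - 1) (ht : 2 ≤ t)
    (HX : ∀ χ ∈ D.X, χ ≠ Helper79.principalIrr G →
      (D.ε χ = 1 ∧ charDegree (χ : G → ℂ) = 1 + n * p) ∨
        (D.ε χ = -1 ∧ charDegree (χ : G → ℂ) + 1 = p)) :
    1 + Nat.card D.Xplus + Nat.card D.Xminus = (cen P).relIndex (nor P) ∧
      ∀ ψ ∈ D.Y, D.δ * (charDegree (ψ : G → ℂ) : ℤ) =
        1 + (Nat.card D.Xplus : ℤ) * (1 + n * p) - (Nat.card D.Xminus : ℤ) * ((p : ℤ) - 1) := by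
  haveI : Finite (IrrCharacter G) := Helper79.irr_finite'
  have hp : p.Prime := Fact.out
  obtain ⟨he1, hed, hep⟩ := e_basic P hP
  have ht' : 2 ≤ (p - 1) / (cen P).relIndex (nor P) := by
    rw [← hte, Nat.mul_div_cancel _ he1]
    exact ht
  obtain ⟨hprX, hprε⟩ := principal_mem_X P D hperf ht'
  have hXfin : D.X.Finite := Set.toFinite _
  set Xf := hXfin.toFinset with hXf
  have hXcard : Xf.card = (cen P).relIndex (nor P) := by
    rw [← D.hcX, ← Set.ncard_eq_toFinset_card _ hXfin]
    exact (Nat.card_coe_set_eq _).symm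
  set Xp := Xf.filter (fun χ => χ ≠ Helper79.principalIrr G ∧ D.ε χ = 1) with hXp
  set Xm := Xf.filter (fun χ => D.ε χ = -1) with hXm
  have hXpc : Nat.card D.Xplus = Xp.card := by
    rw [← Nat.card_eq_finsetCard]
    refine Nat.card_congr (Equiv.subtypeEquivRight fun χ => ?_)
    simp only [L0Data.Xplus, Set.mem_setOf_eq, hXp, Finset.mem_filter, hXf,
      Set.Finite.mem_toFinset]
  have hXmc : Nat.card D.Xminus = Xm.card := by
    rw [← Nat.card_eq_finsetCard]
    refine Nat.card_congr (Equiv.subtypeEquivRight fun χ => ?_)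
    simp only [L0Data.Xminus, Set.mem_setOf_eq, hXm, Finset.mem_filter, hXf,
      Set.Finite.mem_toFinset]
  have hprXf : Helper79.principalIrr G ∈ Xf := hXfin.mem_toFinset.mpr hprX
  -- the partition of `Xf`
  have hpart : Xf = insert (Helper79.principalIrr G) (Xp ∪ Xm) := by
    ext χ
    simp only [hXp, hXm, Finset.mem_insert, Finset.mem_union, Finset.mem_filter]
    constructor
    · intro h
      by_cases h1 : χ = Helper79.principalIrr G
      · exact Or.inl h1
      · rcases D.hε χ with h2 | h2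
        · exact Or.inr (Or.inl ⟨h, h1, h2⟩)
        · exact Or.inr (Or.inr ⟨h, h2⟩)
    · rintro (h | h | h)
      · rw [h]; exact hprXf
      · exact h.1
      · exact h.1
  have hdisj1 : Disjoint Xp Xm := by
    rw [Finset.disjoint_left]
    intro χ h1 h2
    rw [hXp, Finset.mem_filter] at h1
    rw [hXm, Finset.mem_filter] at h2
    rw [h1.2.2] at h2
    exact absurd h2.2 (by norm_num)
  have hnot : Helper79.principalIrr G ∉ Xp ∪ Xm := by
    rw [Finset.mem_union, hXp, hXm, Finset.mem_filter, Finset.mem_filter]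
    rintro (h | h)
    · exact h.2.1 rfl
    · rw [hprε] at h
      exact absurd h.2 (by norm_num)
  refine ⟨?_, ?_⟩
  · rw [hXpc, hXmc, ← hXcard, hpart, Finset.card_insert_of_notMem hnot,
      Finset.card_union_of_disjoint hdisj1]
    ring
  · intro ψ hψ
    rw [degree_equation P D ψ hψ, finsum_mem_eq_finite_toFinset_sum _ hXfin, ← hXf, hpart,
      Finset.sum_insert hnot, Finset.sum_union hdisj1, hprε]
    have hprdeg : charDegree ((Helper79.principalIrr G : IrrCharacter G) : G → ℂ) = 1 := by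
      have h1 := Helper79.irr_one (Helper79.principalIrr G)
      have h2 : ((Helper79.principalIrr G : IrrCharacter G) : G → ℂ) 1 = 1 := rfl
      rw [h2] at h1
      exact_mod_cast h1.symm
    have hsump : ∑ χ ∈ Xp, D.ε χ * (charDegree (χ : G → ℂ) : ℤ) =
        (Xp.card : ℤ) * (1 + n * p) := by
      rw [Finset.sum_congr rfl (g := fun _ => ((1 : ℤ) + n * p))]
      · rw [Finset.sum_const, nsmul_eq_mul]
      · intro χ hχ
        rw [hXp, Finset.mem_filter] at hχ
        have hχX : χ ∈ D.X := hXfin.mem_toFinset.mp hχ.1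
        rcases HX χ hχX hχ.2.1 with h | h
        · rw [h.1, h.2]; push_cast; ring
        · rw [hχ.2.2] at h; exact absurd h.1 (by norm_num)
    have hsumm : ∑ χ ∈ Xm, D.ε χ * (charDegree (χ : G → ℂ) : ℤ) =
        -((Xm.card : ℤ) * ((p : ℤ) - 1)) := by
      rw [Finset.sum_congr rfl (g := fun _ => (-((p : ℤ) - 1)))]
      · rw [Finset.sum_const, nsmul_eq_mul]; ring
      · intro χ hχ
        rw [hXm, Finset.mem_filter] at hχ
        have hχX : χ ∈ D.X := hXfin.mem_toFinset.mp hχ.1
        have hne : χ ≠ Helper79.principalIrr G := by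
          intro h; rw [h, hprε] at hχ; exact absurd hχ.2 (by norm_num)
        rcases HX χ hχX hne with h | h
        · rw [hχ.2] at h; exact absurd h.1 (by norm_num)
        · rw [h.1]
          have : (charDegree (χ : G → ℂ) : ℤ) = p - 1 := by
            have := h.2
            omega
          rw [this]; ring
    rw [hsump, hsumm, hprdeg, hXpc, hXmc]
    push_cast
    ring

/-- `config_counts_core` with the arithmetic front end `2 n ≤ p + 1`. -/
theorem config_counts (hP : Nat.card P = p) (hC : cen P = (P : Subgroup G))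
    (hperf : commutator G = ⊤) (n : ℕ) (hs : (nor P).index = 1 + n * p) (hn1 : 1 ≤ n)
    (hn : 2 * n ≤ p + 1) (t : ℕ) (hte : t * (cen P).relIndex (nor P) = p - 1) (ht : 2 ≤ t) :
    1 + Nat.card D.Xplus + Nat.card D.Xminus = (cen P).relIndex (nor P) ∧
      ∀ ψ ∈ D.Y, D.δ * (charDegree (ψ : G → ℂ) : ℤ) =
        1 + (Nat.card D.Xplus : ℤ) * (1 + n * p) - (Nat.card D.Xminus : ℤ) * ((p : ℤ) - 1) :=
  config_counts_core P D hP hperf n t hte ht
    (fun χ hχ hne => config_X P D hP hC hperf n hs hn1 hn t hte ht χ hχ hne)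

end Cfsg.Agent.Helper16.Brauer43
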