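import Cfsg.Agent.Helper16.Brauer43.L3a
import Cfsg.Agent.S4508

/-!
# Brauer 1943, layer L3t: `t = (p - 1) / e` is not `1`
-/

set_option autoImplicit false

namespace Cfsg.Agent.Helper16.Brauer43

open Cfsg Cfsg.Agent.Helper16 Cfsg.Agent.Helper16.DefOne Cfsg.Agent.Helper82.DefOne
  Cfsg.Agent.Helper77.DefOne Cfsg.Agent.Helper16.Brauer43.GL
open scoped ComplexConjugate

universe u

variable {G : Type u} [Group G] [Fintype G] {p : ℕ} [Fact p.Prime]
  (P : Sylow p G) [Fintype (P : Subgroup G)] (D : L0Data P)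

/-- if `e = p - 1` the single member of `Y` is constant `-δ` on `P \ {1}` -/
theorem exc_const (hP : Nat.card P = p) (he : (cen P).relIndex (nor P) = p - 1) (ψ : IrrCharacter G) (hψ : ψ ∈ D.Y)
    (x : G) (hx : x ∈ (P : Subgroup G)) (hx1 : x ≠ 1) : (ψ : G → ℂ) x = -(D.δ : ℂ) := by
  classical
  have hp : p.Prime := Fact.out
  have h1 := D.hY1 ψ hψ
  have h2 := D.hY2 ψ hψ
  rw [he] at h1 h2
  have hpc : ((p - 1 : ℕ) : ℂ) = (p : ℂ) - 1 := by
    rw [Nat.cast_sub hp.one_le]; simp
  rw [hpc] at h1 h2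
  have hδ2 : (D.δ : ℂ) * (D.δ : ℂ) = 1 := by
    rcases D.hδ with h | h <;> rw [h] <;> norm_num
  have hδc : conj (D.δ : ℂ) = (D.δ : ℂ) := by simp
  -- the sum of `|ψ z + δ|²` over `z ≠ 1` vanishes
  have hone : (ψ : G → ℂ) ((1 : (P : Subgroup G)) : G) = (charDegree (ψ : G → ℂ) : ℂ) := by
    rw [OneMemClass.coe_one]; exact Helper79.irr_one ψ
  have hsum1 : ∑ z ∈ Finset.univ.erase (1 : (P : Subgroup G)), (ψ : G → ℂ) z =
      -((D.δ : ℂ) * ((p : ℂ) - 1)) := by
    have := Finset.add_sum_erase Finset.univ (fun z : (P : Subgroup G) => (ψ : G → ℂ) z)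
      (Finset.mem_univ 1)
    rw [h1, hone] at this
    linear_combination this
  have hsum2 : ∑ z ∈ Finset.univ.erase (1 : (P : Subgroup G)),
      (ψ : G → ℂ) z * conj ((ψ : G → ℂ) z) = (p : ℂ) - 1 := by
    have := Finset.add_sum_erase Finset.univ
      (fun z : (P : Subgroup G) => (ψ : G → ℂ) z * conj ((ψ : G → ℂ) z)) (Finset.mem_univ 1)
    rw [h2, hone] at this
    have hc : conj ((charDegree (ψ : G → ℂ) : ℕ) : ℂ) = ((charDegree (ψ : G → ℂ) : ℕ) : ℂ) := by
      simp
    rw [hc] at this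
    linear_combination this
  have hcard : (Finset.univ.erase (1 : (P : Subgroup G))).card = p - 1 := by
    rw [Finset.card_erase_of_mem (Finset.mem_univ _), Finset.card_univ, ← Nat.card_eq_fintype_card,
      hP]
  have hsumc : ∑ z ∈ Finset.univ.erase (1 : (P : Subgroup G)), conj ((ψ : G → ℂ) z) =
      -((D.δ : ℂ) * ((p : ℂ) - 1)) := by
    rw [← map_sum, hsum1]
    simp
  have hzero : ∑ z ∈ Finset.univ.erase (1 : (P : Subgroup G)),
      ((ψ : G → ℂ) z + (D.δ : ℂ)) * conj ((ψ : G → ℂ) z + (D.δ : ℂ)) = 0 := by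
    have hexp : ∀ z : (P : Subgroup G), ((ψ : G → ℂ) z + (D.δ : ℂ)) *
        conj ((ψ : G → ℂ) z + (D.δ : ℂ)) = (ψ : G → ℂ) z * conj ((ψ : G → ℂ) z) +
        (D.δ : ℂ) * conj ((ψ : G → ℂ) z) + (D.δ : ℂ) * (ψ : G → ℂ) z + 1 := by
      intro z
      rw [map_add, hδc]
      linear_combination hδ2
    simp only [hexp]
    rw [Finset.sum_add_distrib, Finset.sum_add_distrib, Finset.sum_add_distrib, ← Finset.mul_sum,
      ← Finset.mul_sum, hsum1, hsum2, hsumc, Finset.sum_const, hcard, nsmul_eq_mul, hpc]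
    linear_combination (-2 * ((p : ℂ) - 1)) * hδ2
  have hreal : ∑ z ∈ Finset.univ.erase (1 : (P : Subgroup G)),
      Complex.normSq ((ψ : G → ℂ) z + (D.δ : ℂ)) = 0 := by
    have h3 : ((∑ z ∈ Finset.univ.erase (1 : (P : Subgroup G)),
        Complex.normSq ((ψ : G → ℂ) z + (D.δ : ℂ)) : ℝ) : ℂ) = 0 := by
      rw [Complex.ofReal_sum]
      simp only [← Complex.mul_conj]
      exact hzero
    exact_mod_cast h3
  have hall := (Finset.sum_eq_zero_iff_of_nonneg (fun z _ => Complex.normSq_nonneg _)).mp hreal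
  have hxmem : (⟨x, hx⟩ : (P : Subgroup G)) ∈ Finset.univ.erase (1 : (P : Subgroup G)) := by
    rw [Finset.mem_erase]
    exact ⟨fun h => hx1 (congrArg Subtype.val h), Finset.mem_univ _⟩
  have h4 := hall _ hxmem
  rw [Complex.normSq_eq_zero] at h4
  exact eq_neg_of_add_eq_zero_left h4

/-- degrees of a nonprincipal character with a constant sign on `P \ {1}`, case `e = p - 1` -/
theorem deg_of_sign (hP : Nat.card P = p) (hC : cen P = (P : Subgroup G)) (hp3 : 3 ≤ p)
    (he : (cen P).relIndex (nor P) = p - 1) (n : ℕ) (hs : (nor P).index = 1 + n * p)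
    (hn1 : 1 ≤ n) (hn : 2 * n ≤ p + 1) (χ : IrrCharacter G) (σ : ℤ) (hσ : σ = 1 ∨ σ = -1)
    (hmod : (charDegree (χ : G → ℂ) : ℤ) ≡ σ [ZMOD p])
    (hdvd : charDegree (χ : G → ℂ) ∣ (cen P).relIndex (nor P) * (nor P).index)
    (hne : charDegree (χ : G → ℂ) ≠ 1) :
    (σ = 1 ∧ charDegree (χ : G → ℂ) = 1 + n * p) ∨ (σ = -1 ∧ charDegree (χ : G → ℂ) + 1 = p) := by
  have hp : p.Prime := Fact.out
  obtain ⟨he1, hed, hep⟩ := e_basic P hP
  have hd1 : 1 ≤ charDegree (χ : G → ℂ) := Helper79.irr_charDegree_pos χ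
  rw [hs, mul_comm] at hdvd
  rcases hσ with h | h
  · left
    rw [h] at hmod
    obtain ⟨u, h', hu, hd, hprod⟩ := Helper50.B43.ar_split_pos p _ n _ hp.two_le he1 hep hmod
      (by omega) hdvd
    obtain ⟨-, hun⟩ := Helper60.B43.ar_pos p _ n u h' hp.two_le he1 hed hu hprod hn
    exact ⟨h, by rw [hd, hun]⟩
  · right
    rw [h] at hmod
    obtain ⟨u, h', w, hd, hw, hprod⟩ := Helper12.B43.ar_split_neg p _ n _ hp.two_le he1 hep hmod
      hdvd
    have hsq := deg_sq_le χ
    rw [card_eq_mul P hP hC, hs, he] at hsq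
    rw [he] at hw hprod
    obtain ⟨hu, -⟩ := ar_neg_one p n _ w u h' hp3 hd hw hprod hn hn1 hsq
    refine ⟨h, ?_⟩
    rw [hd, hu, one_mul]

include D in
open Classical in
/-- **`t ≠ 1`**: in a perfect group with `C_G(P) = P`, `1 + n p` Sylow subgroups, `1 ≤ n`,
`2 n ≤ p + 1`, the index `e = |N_G(P) : P|` is not `p - 1`. -/
theorem t_ne_one (hP : Nat.card P = p) (hC : cen P = (P : Subgroup G))
    (hperf : commutator G = ⊤) (hp3 : 3 ≤ p) (n : ℕ) (hs : (nor P).index = 1 + n * p)
    (hn1 : 1 ≤ n) (hn : 2 * n ≤ p + 1) : (cen P).relIndex (nor P) ≠ p - 1 := by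
  intro he
  have hp : p.Prime := Fact.out
  haveI : Finite (IrrCharacter G) := Helper79.irr_finite'
  obtain ⟨x₀, hx₀, hx₀p⟩ := Helper48.DefOneGR.exists_gen P hP
  have hx₀1 : x₀ ≠ 1 := by
    intro h
    rw [h, orderOf_one] at hx₀p
    omega
  have hprdeg : charDegree ((Helper79.principalIrr G : IrrCharacter G) : G → ℂ) = 1 := by
    have h1 := Helper79.irr_one (Helper79.principalIrr G)
    have h2 : ((Helper79.principalIrr G : IrrCharacter G) : G → ℂ) 1 = 1 := rfl
    rw [h2] at h1
    exact_mod_cast h1.symm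
  have hdegne : ∀ χ : IrrCharacter G, χ ≠ Helper79.principalIrr G →
      charDegree (χ : G → ℂ) ≠ 1 := by
    intro χ hne h1
    apply hne
    apply Helper20.D8.eq_principal_of_degree_one hperf χ
    rw [Helper79.irr_one χ, h1]
    simp
  -- existence of a character of degree `p - 1`
  have hex : ∃ χ : IrrCharacter G, charDegree (χ : G → ℂ) + 1 = p := by
    by_contra hno
    push Not at hno
    have hXall : ∀ χ ∈ D.X, χ ≠ Helper79.principalIrr G →
        D.ε χ = 1 ∧ charDegree (χ : G → ℂ) = 1 + n * p := by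
      intro χ hχ hne
      rcases deg_of_sign P hP hC hp3 he n hs hn1 hn χ (D.ε χ) (D.hε χ)
        (deg_modEq_X P D hP χ hχ) (deg_dvd_X P D hP hC χ hχ) (hdegne χ hne) with h | h
      · exact h
      · exact absurd h.2 (hno χ)
    -- the member of `Y`
    have hY1 : Nat.card D.Y = 1 := by
      rw [D.hcY, he]
      exact Nat.div_self (by omega)
    obtain ⟨⟨ψ, hψ⟩, hψu⟩ := (Nat.card_eq_one_iff_exists.mp hY1)
    have hψval := exc_const P D hP he ψ hψ x₀ hx₀ hx₀1
    have hXfin : D.X.Finite := Set.toFinite _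
    have hrel := degree_equation P D ψ hψ
    rw [finsum_mem_eq_finite_toFinset_sum _ hXfin] at hrel
    by_cases hprX : Helper79.principalIrr G ∈ D.X
    · have hψne : ψ ≠ Helper79.principalIrr G := by
        intro h
        rw [h] at hψ
        exact Set.disjoint_left.mp D.hdisj hprX hψ
      have hmodψ : (charDegree (ψ : G → ℂ) : ℤ) ≡ -D.δ [ZMOD p] := by
        have h1 := deg_modEq_Y P D hP ψ hψ
        rw [he] at h1
        have h2 : (D.δ * ((p - 1 : ℕ) : ℤ)) ≡ -D.δ [ZMOD p] := by
          rw [Nat.cast_sub hp.one_le]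
          refine Int.modEq_iff_dvd.mpr ⟨-D.δ, ?_⟩
          push_cast
          ring
        exact h1.trans h2
      have hσ : -D.δ = 1 ∨ -D.δ = -1 := by
        rcases D.hδ with h | h <;> rw [h] <;> simp
      rcases deg_of_sign P hP hC hp3 he n hs hn1 hn ψ (-D.δ) hσ hmodψ
        (deg_dvd_Y P D hP hC ψ hψ) (hdegne ψ hψne) with h | h
      · have hδ : D.δ = -1 := by have := h.1; omega
        rw [hδ] at hrel
        have hpos : (0 : ℤ) ≤ ∑ χ ∈ hXfin.toFinset, D.ε χ * (charDegree (χ : G → ℂ) : ℤ) := by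
          apply Finset.sum_nonneg
          intro χ hχ
          rw [Set.Finite.mem_toFinset] at hχ
          by_cases hne : χ = Helper79.principalIrr G
          · have hε1 : D.ε χ = 1 := by
              rcases D.hε χ with h1 | h1
              · exact h1
              · exfalso
                have h2 := D.hX χ hχ x₀ hx₀ hx₀1
                rw [h1, hne] at h2
                have h3 : ((Helper79.principalIrr G : IrrCharacter G) : G → ℂ) x₀ = 1 := rfl
                rw [h3] at h2
                norm_num at h2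
            rw [hε1]
            positivity
          · rw [(hXall χ hχ hne).1]
            positivity
        have hy : (0 : ℤ) < (charDegree (ψ : G → ℂ) : ℤ) := by
          exact_mod_cast Helper79.irr_charDegree_pos ψ
        linarith
      · exact hno ψ h.2
    · -- the principal character is `ψ`
      have hprY : Helper79.principalIrr G ∈ D.Y := by
        by_contra hnY
        have h1 := D.hZ _ hprX hnY x₀ hx₀ hx₀1
        have h3 : ((Helper79.principalIrr G : IrrCharacter G) : G → ℂ) x₀ = 1 := rfl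
        rw [h3] at h1
        norm_num at h1
      have hψeq : ψ = Helper79.principalIrr G := by
        have := hψu ⟨_, hprY⟩
        exact (congrArg Subtype.val this).symm
      rw [hψeq, hprdeg] at hrel
      have hsum : ∑ χ ∈ hXfin.toFinset, D.ε χ * (charDegree (χ : G → ℂ) : ℤ) =
          ((p - 1 : ℕ) : ℤ) * (1 + n * p) := by
        rw [Finset.sum_congr rfl (g := fun _ => ((1 : ℤ) + n * p))]
        · rw [Finset.sum_const, nsmul_eq_mul, ← Set.ncard_eq_toFinset_card _ hXfin,
            ← Nat.card_coe_set_eq, D.hcX, he]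
        · intro χ hχ
          rw [Set.Finite.mem_toFinset] at hχ
          have hne : χ ≠ Helper79.principalIrr G := fun h => hprX (h ▸ hχ)
          obtain ⟨h1, h2⟩ := hXall χ hχ hne
          rw [h1, h2]
          push_cast
          ring
      rw [hsum] at hrel
      have h1 : (2 : ℤ) ≤ ((p - 1 : ℕ) : ℤ) := by
        have : 2 ≤ p - 1 := by omega
        exact_mod_cast this
      have h2 : (1 : ℤ) ≤ (n : ℤ) * p := by
        have : 1 ≤ n * p := Nat.mul_pos hn1 hp.pos
        exact_mod_cast this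
      have h3 : D.δ ≤ 1 := by rcases D.hδ with h | h <;> rw [h] <;> norm_num
      have h4 : (4 : ℤ) ≤ ((p - 1 : ℕ) : ℤ) * (1 + n * p) := by nlinarith
      push_cast at hrel
      rw [mul_one] at hrel
      linarith
  obtain ⟨χ, hχ⟩ := hex
  -- apply S4508
  have hz := Helper82.McKayP.zpowers_eq_sylow p P hP x₀ hx₀ hx₀p
  have hCx : Subgroup.centralizer ({x₀} : Set G) = Subgroup.zpowers x₀ := by
    rw [Helper25.NPCSimple.centralizer_singleton_eq P hP x₀ hx₀ hx₀1, hz]
    exact hC
  have hcount := Helper75.sc_class_count hp hx₀p hCx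
  have hrelI : (Subgroup.zpowers x₀).relIndex (Subgroup.normalizer (Subgroup.zpowers x₀ : Set G)) =
      p - 1 := by
    rw [← he, hz]
    have h1 := nor_eq_normalizer P hP
    rw [h1]
    have h2 : cen P = (P : Subgroup G) := hC
    rw [h2]
  rw [hrelI] at hcount
  have ht1 : Nat.card {C : ConjClasses G // ∃ g ∈ C.carrier, orderOf g = p} = 1 := by
    have : 0 < p - 1 := by omega
    exact Nat.eq_of_mul_eq_mul_right this (by rw [hcount, one_mul])
  rcases Cfsg.Agent.S4508.result p hp x₀ hx₀p hCx 1 ht1 χ hχ with h | h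
  · exact absurd h (by decide)
  · rw [hperf, Subgroup.index_top] at h
    exact absurd h (by decide)

end Cfsg.Agent.Helper16.Brauer43
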