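import Cfsg.Agent.Helper16.Brauer43.L3

/-!
# Brauer 1943, layer L3x: the conclusion of CONFIG as a named proposition
-/

set_option autoImplicit false

namespace Cfsg.Agent.Helper16.Brauer43

open Cfsg Cfsg.Agent.Helper16 Cfsg.Agent.Helper16.DefOne Cfsg.Agent.Helper82.DefOne
  Cfsg.Agent.Helper77.DefOne
open scoped ComplexConjugate

universe u

variable {G : Type u} [Group G] [Fintype G] {p : ℕ} [Fact p.Prime]
  (P : Sylow p G) [Fintype (P : Subgroup G)] (D : L0Data P)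

/-- The conclusion of `config_main` / `config_core`. -/
def ConfigConcl (n t : ℕ) : Prop :=
  (∀ χ ∈ D.Xplus, charDegree (χ : G → ℂ) = 1 + n * p) ∧
  (∀ χ ∈ D.Xminus, charDegree (χ : G → ℂ) + 1 = p) ∧
  1 + Nat.card D.Xplus + Nat.card D.Xminus = (cen P).relIndex (nor P) ∧
  ((D.δ = 1 ∧ (∀ ψ ∈ D.Y, charDegree (ψ : G → ℂ) = (cen P).relIndex (nor P)) ∧
      Nat.card D.Xminus = n * Nat.card D.Xplus ∧
      (cen P).relIndex (nor P) = 1 + Nat.card D.Xplus * (n + 1)) ∨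
   (D.δ = -1 ∧ ∃ a : ℕ, a * t = n + 1 ∧
      (∀ ψ ∈ D.Y, charDegree (ψ : G → ℂ) + (cen P).relIndex (nor P) = a * p) ∧
      Nat.card D.Xminus = a + n * Nat.card D.Xplus ∧
      (cen P).relIndex (nor P) = 1 + a * (1 + t * Nat.card D.Xplus) ∧
      ∑ᶠ χ ∈ D.Zset, charDegree (χ : G → ℂ) ^ 2 = n * p ^ 2))

theorem configConcl_of_core (hP : Nat.card P = p) (hC : cen P = (P : Subgroup G))
    (hperf : commutator G = ⊤) (n : ℕ) (hs : (nor P).index = 1 + n * p)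
    (t : ℕ) (hte : t * (cen P).relIndex (nor P) = p - 1) (ht : 2 ≤ t)
    (HX : ∀ χ ∈ D.X, χ ≠ Helper79.principalIrr G →
      (D.ε χ = 1 ∧ charDegree (χ : G → ℂ) = 1 + n * p) ∨
        (D.ε χ = -1 ∧ charDegree (χ : G → ℂ) + 1 = p))
    (HY : ∀ ψ ∈ D.Y, (D.δ = 1 ∧ charDegree (ψ : G → ℂ) = (cen P).relIndex (nor P)) ∨
      (D.δ = -1 ∧ ∃ a : ℕ, a * t = n + 1 ∧
        charDegree (ψ : G → ℂ) + (cen P).relIndex (nor P) = a * p)) :
    ConfigConcl P D n t :=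
  config_core P D hP hC hperf n hs t hte ht HX HY

theorem configConcl_main (hP : Nat.card P = p) (hC : cen P = (P : Subgroup G))
    (hperf : commutator G = ⊤) (n : ℕ) (hs : (nor P).index = 1 + n * p) (hn1 : 1 ≤ n)
    (hn : 2 * n ≤ p + 1) (t : ℕ) (hte : t * (cen P).relIndex (nor P) = p - 1) (ht : 2 ≤ t) :
    ConfigConcl P D n t :=
  config_main P D hP hC hperf n hs hn1 hn t hte ht

theorem Zset_eq_compl : D.Zset = (D.X ∪ D.Y)ᶜ := by
  ext χ
  simp [L0Data.Zset, not_or]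

/-- every member of `X` is principal, in `X₊` or in `X₋` -/
theorem mem_X_cases (χ : IrrCharacter G) (hχ : χ ∈ D.X) :
    χ = Helper79.principalIrr G ∨ χ ∈ D.Xplus ∨ χ ∈ D.Xminus := by
  by_cases h1 : χ = Helper79.principalIrr G
  · exact Or.inl h1
  · rcases D.hε χ with h | h
    · exact Or.inr (Or.inl ⟨hχ, h1, h⟩)
    · exact Or.inr (Or.inr ⟨hχ, h⟩)

end Cfsg.Agent.Helper16.Brauer43
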